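import Groth.Agent.Lib.NormFib.Birational
import Groth.Agent.Lib.NormFac9.Basic
import Groth.Agent.Lib.Stein.Finite
import Groth.Agent.Lib.AlgSp.Dim
import Groth.Agent.Lib.NormalSerre.Serre
import Groth.Agent.Lib.RegLoc.Normal

/-!
# Resolutions of curves
-/

set_option autoImplicit false
set_option linter.all false
set_option backward.isDefEq.respectTransparency false

universe u

open CategoryTheory AlgebraicGeometry TopologicalSpace

noncomputable section

namespace GrothLib.CurveResol29

variable {Y : Scheme.{u}} [IsIntegral Y] [IsNoetherian Y]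
  [QuasiCompact (Y.fromSpecStalk (genericPoint Y))] [QuasiSeparated (Y.fromSpecStalk (genericPoint Y))]

theorem genericPoint_map {X : Scheme.{u}} [IsIntegral X] (g : X ⟶ Y) [IsDominant g] :
    g (genericPoint X) = genericPoint Y := by
  have h := (genericPoint_spec X).image g.continuous
  rw [Set.image_univ, g.denseRange.closure_range] at h
  exact h.eq (genericPoint_spec Y)

theorem isFinite_normalizationι_of_alteration {X : Scheme.{u}} (g : X ⟶ Y) [IsProper g] [IsIntegral X] [IsDominant g]
    (hreg : ∀ x : X, IsRegularLocalRing (X.presheaf.stalk x)) : IsFinite (Curv2.normalizationι Y) := by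
  have hX : Pi1.IsNormalScheme X := fun x => by
    haveI := hreg x
    exact ⟨inferInstance, GrothLib.RegLoc.isIntegrallyClosed_of_isRegularLocalRing _⟩
  obtain ⟨h, hh, -⟩ := NormFac9.existsUnique_fac g hX fun z hz => by
    have hzg : z = genericPoint X := by
      rw [irreducibleComponents_eq_singleton, Set.mem_singleton_iff] at hz
      exact (isGenericPoint_def.2 hz).eq (genericPoint_spec X)
    rw [hzg]
    exact genericPoint_map g
  refine (isFinite_iff _).mpr ⟨inferInstance, fun U hU => ?_⟩
  by_cases hne : Nonempty U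
  · let _ := NormFib.chartAlgebra (X := Y) U
    obtain ⟨_, _, hic⟩ := NormFib.exists_chart hU
    obtain ⟨hdom, -⟩ := NormFib.isIntegrallyClosed_chart hU
    haveI : Algebra.IsIntegral Γ(Y, U) Γ(Curv2.normalization Y, NormFib.pre U) :=
      IsIntegralClosure.isIntegral_algebra Γ(Y, U) Y.functionField
    haveI : IsNoetherianRing Γ(Y, U) := IsLocallyNoetherian.component_noetherian ⟨U, hU⟩
    letI : Algebra Γ(Y, U) Γ(X, g ⁻¹ᵁ U) := (g.app U).hom.toAlgebra
    haveI : Module.Finite Γ(Y, U) Γ(X, g ⁻¹ᵁ U) := GrothLib.Stein.finite_app_of_isProper g hU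
    let eU : g ⁻¹ᵁ U ≤ h ⁻¹ᵁ (NormFib.pre U) := le_of_eq (by
      rw [← hh, Scheme.Hom.comp_preimage])
    let φ : Γ(Curv2.normalization Y, NormFib.pre U) →+* Γ(X, g ⁻¹ᵁ U) :=
      (h.appLE (NormFib.pre U) (g ⁻¹ᵁ U) eU).hom
    have hcomp : ∀ a, φ (algebraMap Γ(Y, U) _ a) = algebraMap Γ(Y, U) Γ(X, g ⁻¹ᵁ U) a := fun a => by
      show ((Curv2.normalizationι Y).app U ≫ h.appLE (NormFib.pre U) (g ⁻¹ᵁ U) eU) a = g.app U a
      rw [show (Curv2.normalizationι Y).app U = (Curv2.normalizationι Y).appLE U (NormFib.pre U) le_rfl from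
        (Scheme.Hom.app_eq_appLE _), Scheme.Hom.appLE_comp_appLE]
      subst hh
      rw [Scheme.Hom.app_eq_appLE]
    have hinj : Function.Injective φ := by
      rw [RingHom.injective_iff_ker_eq_bot]
      refine Ideal.eq_bot_of_comap_eq_bot (R := Γ(Y, U)) ?_
      refine (Submodule.eq_bot_iff _).2 fun a ha => ?_
      by_contra ha0
      have h0 : g.app U a = 0 := (hcomp a).symm.trans (RingHom.mem_ker.1 ha)
      have hη : genericPoint Y ∈ U := ((genericPoint_spec Y).mem_open_set_iff U.isOpen).mpr (by
        obtain ⟨y⟩ := hne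
        exact ⟨y.1, trivial, y.2⟩)
      have hu : IsUnit (Y.presheaf.germ U (genericPoint Y) hη a) := by
        refine isUnit_iff_ne_zero.2 fun hc => ha0 ?_
        rw [← map_zero (Y.presheaf.germ U (genericPoint Y) hη).hom] at hc
        exact germ_injective_of_isIntegral Y (genericPoint Y) hη hc
      have hmem : genericPoint X ∈ g ⁻¹ᵁ U := by
        show g (genericPoint X) ∈ U
        rw [genericPoint_map g]; exact hη
      have hU' : (genericPoint Y) ∈ Y.basicOpen a :=
        (RingedSpace.mem_basicOpen Y.toLocallyRingedSpace.toRingedSpace a _ hη).mpr hu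
      have h2 : genericPoint X ∈ g ⁻¹ᵁ Y.basicOpen a := by
        show g (genericPoint X) ∈ Y.basicOpen a
        rw [genericPoint_map g]; exact hU'
      rw [Scheme.preimage_basicOpen, h0, Scheme.basicOpen_zero] at h2
      exact h2
    exact RingHom.finite_algebraMap.mpr (Module.Finite.of_injective
      ({ toFun := φ, map_add' := map_add φ, map_smul' := fun a b => by
          rw [Algebra.smul_def, map_mul, hcomp, RingHom.id_apply, Algebra.smul_def] } :
        Γ(Curv2.normalization Y, NormFib.pre U) →ₗ[Γ(Y, U)] Γ(X, g ⁻¹ᵁ U)) hinj)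
  · have hUbot : U = ⊥ := TopologicalSpace.Opens.ext (Set.eq_empty_iff_forall_notMem.mpr
      fun x hx => hne ⟨⟨x, hx⟩⟩)
    have hb : Curv2.normalizationι Y ⁻¹ᵁ U = ⊥ := by rw [hUbot]; rfl
    have : Subsingleton Γ(Curv2.normalization Y, Curv2.normalizationι Y ⁻¹ᵁ U) :=
      CommRingCat.subsingleton_of_isTerminal ((Curv2.normalization Y).sheaf.isTerminalOfEqEmpty hb)
    exact RingHom.Finite.of_surjective _ fun b => ⟨0, Subsingleton.elim _ _⟩

theorem isRegular_normalization (hdim : topologicalKrullDim Y ≤ 1) (hfin : IsFinite (Curv2.normalizationι Y))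
    (z : Curv2.normalization Y) : IsRegularLocalRing ((Curv2.normalization Y).presheaf.stalk z) := by
  haveI := hfin
  haveI : IsLocallyNoetherian (Curv2.normalization Y) :=
    LocallyOfFiniteType.isLocallyNoetherian (Curv2.normalizationι Y)
  obtain ⟨_, _⟩ := NormFib.isNormalScheme_normalization (X := Y) z
  refine GrothLib.NormalSerre.isRegularLocalRing_of_isIntegrallyClosed ?_
  have h := (GrothLib.AlgSp.topologicalKrullDim_le_of_isIntegralHom (Curv2.normalizationι Y)).trans hdim
  have h1 : ringKrullDim ((Curv2.normalization Y).presheaf.stalk z) ≤ 1 := by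
    refine le_trans ?_ h
    rw [← PrimeSpectrum.topologicalKrullDim_eq_ringKrullDim]
    exact ((Curv2.normalization Y).fromSpecStalk z).isEmbedding.isInducing.topologicalKrullDim_le
  rw [← IsLocalRing.maximalIdeal_height_eq_ringKrullDim] at h1
  exact_mod_cast h1

end GrothLib.CurveResol29
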