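import Groth.Agent.Lib.CurveResol29.PointBlowups
import Groth.Agent.Lib.ArSurf29.FactorBlowUpIso
import Groth.Agent.Lib.BlowUp.EffCartier
import Groth.Agent.Lib.SchImage.Reduced
import Mathlib.Data.DFinsupp.WellFounded

/-!
# Making strict transforms of curves regular and disjoint
-/

set_option autoImplicit false
set_option linter.all false
set_option backward.isDefEq.respectTransparency false

universe u

open CategoryTheory AlgebraicGeometry TopologicalSpace IsLocalRing
open GrothLib.CartierDescent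

noncomputable section

namespace GrothLib.CurveResol29

theorem isPtBlowupSeq_iso_comp {Y W : Scheme.{u}} {r : Y ⟶ W} (hr : Resolve.IsPtBlowupSeq r) :
    ∀ {X : Scheme.{u}} (e : X ≅ Y), Resolve.IsPtBlowupSeq (e.hom ≫ r) := by
  cases hr with
  | iso e' => exact fun e => Resolve.IsPtBlowupSeq.iso (e ≪≫ e')
  | step b r z hz hb hr =>
    intro X e
    rw [← Category.assoc]
    exact Resolve.IsPtBlowupSeq.step _ r z hz (GrothLib.ArSurf29.isBlowUp_iso_comp hb e.hom) hr

theorem isPtBlowupSeq_trans {X Y : Scheme.{u}} {r₁ : X ⟶ Y} (h₁ : Resolve.IsPtBlowupSeq r₁) :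
    ∀ {W : Scheme.{u}} {r₂ : Y ⟶ W}, Resolve.IsPtBlowupSeq r₂ → Resolve.IsPtBlowupSeq (r₁ ≫ r₂) := by
  induction h₁ with
  | iso e => exact fun h₂ => isPtBlowupSeq_iso_comp h₂ e
  | step b r z hz hb hr ih =>
    intro W r₂ h₂
    rw [Category.assoc]
    exact Resolve.IsPtBlowupSeq.step b _ z hz hb (ih h₂)

theorem isNoetherian_of_seq {X' X : Scheme.{u}} {g : X' ⟶ X} (hg : Resolve.IsPtBlowupSeq g) :
    ∀ [IsNoetherian X], IsNoetherian X' := by
  induction hg with
  | @iso A B e =>
    intro _
    haveI : IsLocallyNoetherian A := LocallyOfFiniteType.isLocallyNoetherian e.hom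
    haveI : CompactSpace A := QuasiCompact.compactSpace_of_compactSpace e.hom
    exact ⟨⟩
  | @step A Z B b r z hz hb hr ih =>
    intro _
    haveI := ih
    haveI : IsProper b := GrothLib.BlowUpProper.isProper_of_isBlowUp hb
    haveI : IsLocallyNoetherian A := LocallyOfFiniteType.isLocallyNoetherian b
    haveI : CompactSpace A := QuasiCompact.compactSpace_of_compactSpace b
    exact ⟨⟩

/-- A curve over `Y₀` inside `X`, with finite normalization. -/
structure CurveData (N Y₀ X X₀ : Scheme.{u}) (g : X ⟶ X₀) (i₀ : Y₀ ⟶ X₀) : Type (u + 1) where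
  W : Scheme.{u}
  i : W ⟶ X
  h : W ⟶ Y₀
  q : N ⟶ W
  hW : IsIntegral W
  hi : IsClosedImmersion i
  hq : IsFinite q
  hqd : IsDominant q
  hh : IsFinite h
  hcomm : h ≫ i₀ = i ≫ g
  hiso : ∃ V : Y₀.Opens, (V : Set Y₀).Nonempty ∧ IsIso (h ∣_ V)

variable {N Y₀ X X₀ : Scheme.{u}} {g : X ⟶ X₀} {i₀ : Y₀ ⟶ X₀}

/-- All the local rings of the curve are regular. -/
def CurveData.Regular (D : CurveData N Y₀ X X₀ g i₀) : Prop :=
  ∀ w : D.W, IsRegularLocalRing (D.W.presheaf.stalk w)

variable [IsIntegral N] [IsIntegral Y₀] [IsNoetherian Y₀]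

/-- Blowing up a closed point: the curve lifts, and does not change if it was regular. -/
theorem CurveData.exists_step (D : CurveData N Y₀ X X₀ g i₀) (hregN : ∀ x : N, IsRegularLocalRing (N.presheaf.stalk x))
    (hdim : topologicalKrullDim Y₀ ≤ 1) (hη : ¬ IsClosed ({genericPoint Y₀} : Set Y₀))
    [IsNoetherian X] {X' : Scheme.{u}} {x : X} (hx : IsClosed ({x} : Set X)) {c : X' ⟶ X}
    (hc : _root_.BlowUp.IsBlowUp c (Scheme.IdealSheafData.vanishingIdeal ⟨{x}, hx⟩)) :
    ∃ D' : CurveData N Y₀ X' X₀ (c ≫ g) i₀, D.Regular →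
      ∃ e : D'.W ≅ D.W, D'.i ≫ c = e.hom ≫ D.i ∧ D'.Regular := by
  obtain ⟨W, i, h, q, hW, hi, hq, hqd, hh, hcomm, hiso⟩ := D
  haveI := hW; haveI := hi; haveI := hq; haveI := hqd; haveI := hh
  haveI : IsLocallyNoetherian W := LocallyOfFiniteType.isLocallyNoetherian h
  haveI : IsProper c := GrothLib.BlowUpProper.isProper_of_isBlowUp hc
  set J := Scheme.IdealSheafData.vanishingIdeal ⟨{x}, hx⟩
  by_cases hcart : _root_.BlowUp.IsEffCartierIdeal (J.comap i)
  · obtain ⟨i', hi', -⟩ := hc.2 W i hcart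
    haveI : IsClosedImmersion i' := by
      haveI : IsClosedImmersion (i' ≫ c) := by rw [hi']; infer_instance
      exact IsClosedImmersion.of_comp i' c
    refine ⟨⟨W, i', h, q, hW, inferInstance, hq, hqd, hh, by rw [reassoc_of% hi', hcomm], hiso⟩,
      fun hreg => ⟨Iso.refl W, by rw [Iso.refl_hom, Category.id_comp]; exact hi', hreg⟩⟩
  · have hJsupp : (J.support : Set X) = {x} := Scheme.IdealSheafData.coe_support_vanishingIdeal _
    have hηsupp : genericPoint W ∉ (J.comap i).support := fun hmem => hη (by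
      rw [Scheme.IdealSheafData.support_comap] at hmem
      have hix : i (genericPoint W) ∈ (J.support : Set X) := hmem
      rw [hJsupp] at hix
      obtain ⟨V, hV, hVi⟩ := hiso
      haveI := hVi
      haveI := isDominant_of_isIso_over h V hV
      have hclW : IsClosed ({genericPoint W} : Set W) := by
        have h1 : IsClosed (i ⁻¹' {x}) := hx.preimage i.continuous
        rwa [show i ⁻¹' {x} = {genericPoint W} from Set.ext fun w =>
          ⟨fun hw => i.isEmbedding.injective (hw.trans (Set.mem_singleton_iff.1 hix).symm),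
            fun hw => by rw [hw]; exact hix⟩] at h1
      have h2 := h.isClosedMap _ hclW
      rwa [Set.image_singleton, genericPoint_map' h] at h2)
    have hdimW : topologicalKrullDim W ≤ 1 := (GrothLib.AlgSp.topologicalKrullDim_le_of_isIntegralHom h).trans hdim
    haveI : IsLocallyNoetherian N := LocallyOfFiniteType.isLocallyNoetherian q
    have hdimN : topologicalKrullDim N ≤ 1 := (GrothLib.AlgSp.topologicalKrullDim_le_of_isIntegralHom q).trans hdimW
    obtain ⟨W', b, hb⟩ := GrothLib.BlowUp.exists_isBlowUp W (J.comap i)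
    have hJbot : J.comap i ≠ ⊥ := fun h0 => hηsupp (by rw [h0, Scheme.IdealSheafData.support_bot]; trivial)
    obtain ⟨hW', hgen, -⟩ := Groth.Agent.S2348.result _ hJbot b hb
    haveI := hW'
    haveI : IsProper b := GrothLib.BlowUpProper.isProper_of_isBlowUp hb
    have hηq : genericPoint N ∉ ((J.comap i).comap q).support := by
      rw [Scheme.IdealSheafData.support_comap]
      intro hmem
      have hmem' : q (genericPoint N) ∈ ((J.comap i).support : Set W) := hmem
      rw [genericPoint_map' q] at hmem'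
      exact hηsupp hmem'
    obtain ⟨q', hq', -⟩ := hb.2 N q (isEffCartierIdeal_of_regular_curve hregN hdimN _ hηq)
    haveI : IsFinite q' := by
      haveI : IsFinite (q' ≫ b) := by rw [hq']; infer_instance
      exact IsFinite.of_comp q' b
    haveI := GrothLib.BlowUp.isIso_off_center hb
    have hq'η : q' (genericPoint N) = genericPoint W' := by
      have h1 : b (q' (genericPoint N)) = genericPoint W := by
        rw [← Scheme.Hom.comp_apply, hq', genericPoint_map' q]
      have hmem1 : q' (genericPoint N) ∈ b ⁻¹ᵁ (J.comap i).support.compl := by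
        show b (q' (genericPoint N)) ∈ (J.comap i).support.compl
        rw [h1]; exact hηsupp
      have hmem2 : genericPoint W' ∈ b ⁻¹ᵁ (J.comap i).support.compl := by
        show b (genericPoint W') ∈ (J.comap i).support.compl
        rw [hgen]; exact hηsupp
      refine congrArg Subtype.val ((b ∣_ (J.comap i).support.compl).homeomorph.injective
        (a₁ := ⟨_, hmem1⟩) (a₂ := ⟨_, hmem2⟩) ?_)
      exact Subtype.ext ((restrict_apply b _ _).trans ((h1.trans hgen.symm).trans (restrict_apply b _ ⟨_, hmem2⟩).symm))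
    haveI : IsDominant q' := ⟨dense_iff_closure_eq.2 (top_unique fun y _ =>
      ((genericPoint_spec W').specializes trivial).mem_closed isClosed_closure (subset_closure ⟨_, hq'η⟩))⟩
    have hq'surj : Function.Surjective q' := fun y => by
      have h1 : IsClosed (Set.range q') := q'.isClosedMap.isClosed_range
      have h2 := q'.denseRange.closure_range
      rw [h1.closure_eq] at h2
      exact h2.ge trivial
    haveI : LocallyQuasiFinite b := LocallyQuasiFinite.of_finite_preimage_singleton b fun w => by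
      refine Set.Finite.subset ((q.finite_preimage_singleton w).image q') fun y hy => ?_
      obtain ⟨n, rfl⟩ := hq'surj y
      exact ⟨n, by show q n = w; rw [← hq', Scheme.Hom.comp_apply]; exact hy, rfl⟩
    haveI : IsFinite b := IsFinite.of_isProper_of_locallyQuasiFinite b
    obtain ⟨i', hi', -⟩ := hc.2 W' (b ≫ i) (by rw [Scheme.IdealSheafData.comap_comp]; exact hb.1)
    haveI : IsClosedImmersion i' := GrothLib.BlowUp.isClosedImmersion_map _ i hc hb i' hi'
    refine ⟨⟨W', i', b ≫ h, q', hW', inferInstance, inferInstance, inferInstance, inferInstance,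
      by rw [Category.assoc, hcomm, reassoc_of% hi'], ?_⟩,
      fun hreg => absurd (isEffCartierIdeal_of_regular_curve hreg hdimW _ hηsupp) hcart⟩
    obtain ⟨V, hV, hVi⟩ := hiso
    haveI := hVi
    let C : Set Y₀ := h '' ((J.comap i).support : Set W)
    have hC : IsClosed C := h.isClosedMap _ (J.comap i).support.isClosed
    let O : Y₀.Opens := ⟨Cᶜ, hC.isOpen_compl⟩
    have hηV : genericPoint Y₀ ∈ V := ((genericPoint_spec Y₀).mem_open_set_iff V.isOpen).mpr (by simpa using hV)
    have hηO : genericPoint Y₀ ∈ O := by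
      rintro ⟨w, hw, hwη⟩
      haveI := isDominant_of_isIso_over h V hV
      refine hηsupp ?_
      have hw1 : w ∈ h ⁻¹ᵁ V := by show h w ∈ V; rw [hwη]; exact hηV
      have hw2 : genericPoint W ∈ h ⁻¹ᵁ V := by show h (genericPoint W) ∈ V; rw [genericPoint_map' h]; exact hηV
      have : w = genericPoint W := congrArg Subtype.val ((h ∣_ V).homeomorph.injective (a₁ := ⟨w, hw1⟩) (a₂ := ⟨_, hw2⟩)
        (Subtype.ext ((restrict_apply h _ _).trans ((hwη.trans (genericPoint_map' h).symm).trans
          (restrict_apply h _ ⟨_, hw2⟩).symm))))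
      exact this ▸ hw
    refine ⟨V ⊓ O, ⟨_, hηV, hηO⟩, ?_⟩
    haveI := GrothLib.Nagata6.isIso_restrict_of_le h V (V ⊓ O) inf_le_left
    haveI := GrothLib.Nagata6.isIso_restrict_of_le b (J.comap i).support.compl (h ⁻¹ᵁ (V ⊓ O))
      fun w hw hws => hw.2 ⟨w, hws, rfl⟩
    rw [morphismRestrict_comp]
    infer_instance

/-- Curves lift along sequences of point blow-ups. -/
theorem CurveData.exists_seq {X' X : Scheme.{u}} {c : X' ⟶ X} (hc : Resolve.IsPtBlowupSeq c)
    (hregN : ∀ x : N, IsRegularLocalRing (N.presheaf.stalk x)) (hdim : topologicalKrullDim Y₀ ≤ 1)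
    (hη : ¬ IsClosed ({genericPoint Y₀} : Set Y₀)) :
    ∀ [IsNoetherian X] (g : X ⟶ X₀) (D : CurveData N Y₀ X X₀ g i₀),
      ∃ D' : CurveData N Y₀ X' X₀ (c ≫ g) i₀, D.Regular → D'.Regular := by
  induction hc with
  | @iso A B e =>
    intro _ g D
    haveI := D.hi
    exact ⟨⟨D.W, D.i ≫ e.inv, D.h, D.q, D.hW, inferInstance, D.hq, D.hqd, D.hh,
      by rw [Category.assoc, Iso.inv_hom_id_assoc, D.hcomm], D.hiso⟩, fun h => h⟩
  | @step A Z B b r z hz hb hr ih =>
    intro _ g D
    haveI := isNoetherian_of_seq hr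
    obtain ⟨D₁, h₁⟩ := ih g D
    obtain ⟨D₂, h₂⟩ := D₁.exists_step hregN hdim hη hz hb
    rw [Category.assoc]
    exact ⟨D₂, fun h => (h₂ (h₁ h)).choose_spec.2⟩

section Many

variable {n : ℕ} {N Y : Fin n → Scheme.{u}} [∀ k, IsIntegral (N k)] [∀ k, IsIntegral (Y k)] [∀ k, IsNoetherian (Y k)]
  {X₀ : Scheme.{u}} [IsNoetherian X₀] {ι : ∀ k, Y k ⟶ X₀}
  (hregN : ∀ k, ∀ x : N k, IsRegularLocalRing ((N k).presheaf.stalk x))
  (hdim : ∀ k, topologicalKrullDim (Y k) ≤ 1) (hη : ∀ k, ¬ IsClosed ({genericPoint (Y k)} : Set (Y k)))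

include hregN hdim hη in
theorem exists_all_regular (D₀ : ∀ k, CurveData (N k) (Y k) X₀ X₀ (𝟙 X₀) (ι k)) :
    ∀ m ≤ n, ∃ (X : Scheme.{u}) (g : X ⟶ X₀), Resolve.IsPtBlowupSeq g ∧
      ∃ D : ∀ k, CurveData (N k) (Y k) X X₀ g (ι k), ∀ k : Fin n, (k : ℕ) < m → (D k).Regular := by
  intro m
  induction m with
  | zero => exact fun _ => ⟨X₀, 𝟙 X₀, .iso (Iso.refl X₀), D₀, fun k hk => absurd hk (Nat.not_lt_zero _)⟩
  | succ m ih =>
    intro hm
    obtain ⟨X, g, hg, D, hD⟩ := ih (Nat.le_of_succ_le hm)
    haveI := isNoetherian_of_seq hg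
    let k₀ : Fin n := ⟨m, hm⟩
    obtain ⟨W, i, h, q, hW, hi, hq, hqd, hh, hcomm, V, hV, hVi⟩ := D k₀
    haveI := hW; haveI := hi; haveI := hq; haveI := hqd; haveI := hh; haveI := hVi
    haveI : IsLocallyNoetherian W := LocallyOfFiniteType.isLocallyNoetherian h
    haveI : CompactSpace W := QuasiCompact.compactSpace_of_compactSpace h
    haveI : IsNoetherian W := ⟨⟩
    obtain ⟨X', c, W', b, i', hc, -, hi', hbi, hW', ⟨V', hV', hV'i⟩, hreg, hbfin, q', hq', hq'd⟩ :=
      exists_pointBlowups_regular (hregN k₀) ((GrothLib.AlgSp.topologicalKrullDim_le_of_isIntegralHom h).trans (hdim k₀)) q i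
    have key : ∀ k, ∃ D' : CurveData (N k) (Y k) X' X₀ (c ≫ g) (ι k), (k : ℕ) < m + 1 → D'.Regular := by
      intro k
      by_cases hk : k = k₀
      · subst hk
        haveI := hi'; haveI := hW'; haveI := hV'i; haveI := hbfin
        haveI := isDominant_of_isIso_over h V hV
        haveI := isDominant_of_isIso_over b V' hV'
        refine ⟨⟨W', i', b ≫ h, q', hW', hi', hq', hq'd, inferInstance,
          by rw [Category.assoc, hcomm, reassoc_of% hbi], ?_⟩, fun _ => hreg⟩
        let C : Set W := (V' : Set W)ᶜ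
        have hC : IsClosed (h '' C) := h.isClosedMap _ V'.isOpen.isClosed_compl
        let O : (Y k₀).Opens := ⟨(h '' C)ᶜ, hC.isOpen_compl⟩
        have hηV : genericPoint (Y k₀) ∈ V := ((genericPoint_spec (Y k₀)).mem_open_set_iff V.isOpen).mpr (by simpa using hV)
        have hηV' : genericPoint W ∈ V' := ((genericPoint_spec W).mem_open_set_iff V'.isOpen).mpr (by simpa using hV')
        have hηO : genericPoint (Y k₀) ∈ O := by
          rintro ⟨w, hw, hwη⟩
          have hw1 : w ∈ h ⁻¹ᵁ V := by show h w ∈ V; rw [hwη]; exact hηV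
          have hw2 : genericPoint W ∈ h ⁻¹ᵁ V := by show h (genericPoint W) ∈ V; rw [genericPoint_map' h]; exact hηV
          have he : w = genericPoint W := congrArg Subtype.val ((h ∣_ V).homeomorph.injective (a₁ := ⟨w, hw1⟩)
            (a₂ := ⟨_, hw2⟩) (Subtype.ext ((restrict_apply h _ _).trans ((hwη.trans (genericPoint_map' h).symm).trans
              (restrict_apply h _ ⟨_, hw2⟩).symm))))
          exact hw (he ▸ hηV')
        refine ⟨V ⊓ O, ⟨_, hηV, hηO⟩, ?_⟩
        haveI := GrothLib.Nagata6.isIso_restrict_of_le h V (V ⊓ O) inf_le_left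
        haveI := GrothLib.Nagata6.isIso_restrict_of_le b V' (h ⁻¹ᵁ (V ⊓ O))
          fun w hw => not_not.1 fun hn => hw.2 ⟨w, hn, rfl⟩
        rw [morphismRestrict_comp]
        infer_instance
      · obtain ⟨D', hD'⟩ := CurveData.exists_seq hc (hregN k) (hdim k) (hη k) g (D k)
        refine ⟨D', fun hlt => hD' (hD k ?_)⟩
        exact lt_of_le_of_ne (Nat.lt_succ_iff.1 hlt) fun he => hk (Fin.ext he)
    choose D' hD' using key
    exact ⟨X', c ≫ g, isPtBlowupSeq_trans hc hg, D', hD'⟩

end Many

/-- The ascending chain condition for ideal sheaves of a noetherian scheme. -/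
theorem wellFoundedGT_ideal (X : Scheme.{u}) [IsNoetherian X] : WellFoundedGT X.IdealSheafData := by
  classical
  have hc : ∀ x : X, ∃ U : X.affineOpens, x ∈ U.1 := fun x => by
    obtain ⟨U, hU, hxU, -⟩ := Opens.isBasis_iff_nbhd.1 X.isBasis_affineOpens (Opens.mem_top x)
    exact ⟨⟨U, hU⟩, hxU⟩
  choose U hxU using hc
  obtain ⟨t, ht⟩ := isCompact_univ.elim_finite_subcover (fun x => ((U x).1 : Set X)) (fun x => (U x).1.isOpen)
    (fun x _ => Set.mem_iUnion.2 ⟨x, hxU x⟩)
  haveI : ∀ i : t, WellFoundedGT (Ideal Γ(X, (U i.1).1)) := fun i => by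
    haveI := IsLocallyNoetherian.component_noetherian (X := X) (U i.1)
    infer_instance
  let φ : X.IdealSheafData → ∀ i : t, Ideal Γ(X, (U i.1).1) := fun J i => J.ideal (U i.1)
  have hφ : StrictMono φ := by
    intro J J' h
    refine lt_of_le_of_ne (fun i => h.le _) fun e => h.ne ?_
    refine Scheme.IdealSheafData.ext_of_iSup_eq_top (fun i : t => U i.1) (eq_top_iff.2 fun x _ => ?_)
      fun i => congrFun e i
    obtain ⟨i, hi, hxi⟩ := Set.mem_iUnion₂.1 (ht (Set.mem_univ x))
    exact Opens.mem_iSup.2 ⟨⟨i, hi⟩, hxi⟩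
  haveI : WellFoundedLT (∀ i : t, (Ideal Γ(X, (U i.1).1))ᵒᵈ) := Pi.wellFoundedLT
  have hψ : StrictAnti (fun J : X.IdealSheafData => (fun i => OrderDual.toDual (φ J i) : ∀ i : t, (Ideal Γ(X, (U i.1).1))ᵒᵈ)) :=
    fun J J' h => hφ h
  exact hψ.wellFoundedGT

theorem exists_disjoint_of_regular {n : ℕ} (W : Fin n → Scheme.{u}) [∀ k, IsIntegral (W k)] [∀ k, IsNoetherian (W k)]
    (hreg : ∀ k, ∀ w : W k, IsRegularLocalRing ((W k).presheaf.stalk w)) (hdim : ∀ k, topologicalKrullDim (W k) ≤ 1)
    (hη : ∀ k, ¬ IsClosed ({genericPoint (W k)} : Set (W k))) (X : Scheme.{u}) [IsNoetherian X] (i : ∀ k, W k ⟶ X)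
    (hi : ∀ k, IsClosedImmersion (i k)) (hdist : ∀ j k, j ≠ k → i k (genericPoint (W k)) ∉ Set.range (i j)) :
    ∃ (X' : Scheme.{u}) (c : X' ⟶ X) (i' : ∀ k, W k ⟶ X'), Resolve.IsPtBlowupSeq c ∧ (∀ k, IsClosedImmersion (i' k)) ∧
      (∀ k, i' k ≫ c = i k) ∧ ∀ j k, j ≠ k → Disjoint (Set.range (i' j)) (Set.range (i' k)) := by
  classical
  haveI : ∀ p : Fin n × Fin n, WellFoundedGT (W p.2).IdealSheafData := fun p => wellFoundedGT_ideal _
  haveI : WellFoundedGT (∀ p : Fin n × Fin n, (W p.2).IdealSheafData) :=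
    ⟨(Pi.wellFoundedLT (α := fun p : Fin n × Fin n => ((W p.2).IdealSheafData)ᵒᵈ)).wf⟩
  suffices key : ∀ (m : ∀ p : Fin n × Fin n, (W p.2).IdealSheafData) (X : Scheme.{u}) (_ : IsNoetherian X)
      (i : ∀ k, W k ⟶ X), (∀ k, IsClosedImmersion (i k)) → (∀ j k, j ≠ k → i k (genericPoint (W k)) ∉ Set.range (i j)) →
      (∀ p : Fin n × Fin n, (i p.1).ker.comap (i p.2) = m p) →
      ∃ (X' : Scheme.{u}) (c : X' ⟶ X) (i' : ∀ k, W k ⟶ X'), Resolve.IsPtBlowupSeq c ∧ (∀ k, IsClosedImmersion (i' k)) ∧
        (∀ k, i' k ≫ c = i k) ∧ ∀ j k, j ≠ k → Disjoint (Set.range (i' j)) (Set.range (i' k)) by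
    exact key _ X inferInstance i hi hdist fun p => rfl
  intro m
  induction m using WellFoundedGT.induction with
  | _ m ih =>
  intro X hX i hi hdist hm
  haveI := hX
  by_cases hall : ∀ j k, j ≠ k → Disjoint (Set.range (i j)) (Set.range (i k))
  · exact ⟨X, 𝟙 X, i, .iso (Iso.refl X), hi, fun k => Category.comp_id _, hall⟩
  push Not at hall
  obtain ⟨j, k, hjk, hdisj⟩ := hall
  obtain ⟨x, ⟨p₀, hp₀⟩, ⟨p, hp⟩⟩ := Set.not_disjoint_iff.1 hdisj
  haveI := hi j; haveI := hi k
  have hpη : p ≠ genericPoint (W k) := fun he => hdist j k hjk ⟨p₀, hp₀.trans (hp.symm.trans (congrArg (i k) he))⟩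
  have hpc : IsClosed ({p} : Set (W k)) := GrothLib.CDivLib.isClosed_singleton_of_ne (hdim k) hpη
  have hxc : IsClosed ({x} : Set X) := by
    rw [← hp, ← Set.image_singleton]
    exact (i k).isClosedEmbedding.isClosedMap _ hpc
  subst hp
  obtain ⟨X', c, hc⟩ := GrothLib.BlowUp.exists_isBlowUp X (Scheme.IdealSheafData.vanishingIdeal ⟨{i k p}, hxc⟩)
  set J := Scheme.IdealSheafData.vanishingIdeal ⟨{i k p}, hxc⟩
  have hJsupp : (J.support : Set X) = {i k p} := Scheme.IdealSheafData.coe_support_vanishingIdeal _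
  haveI : IsProper c := GrothLib.BlowUpProper.isProper_of_isBlowUp hc
  have hηx : ∀ l, i l (genericPoint (W l)) ≠ i k p := fun l he => hη l (by
    haveI := hi l
    have h1 : IsClosed ((i l) ⁻¹' {i k p}) := hxc.preimage (i l).continuous
    rwa [show (i l) ⁻¹' {i k p} = {genericPoint (W l)} from Set.ext fun w =>
      ⟨fun hw => (i l).isEmbedding.injective (Eq.trans hw he.symm), fun hw => by rw [hw]; exact he⟩] at h1)
  have hcart : ∀ l, _root_.BlowUp.IsEffCartierIdeal (J.comap (i l)) := fun l =>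
    isEffCartierIdeal_of_regular_curve (hreg l) (hdim l) _ (by
      rw [Scheme.IdealSheafData.support_comap]
      intro hmem
      have hmem' : i l (genericPoint (W l)) ∈ (J.support : Set X) := hmem
      rw [hJsupp] at hmem'
      exact hηx l hmem')
  choose i' hi' _ using fun l => hc.2 (W l) (i l) (hcart l)
  haveI hi'c : ∀ l, IsClosedImmersion (i' l) := fun l => by
    haveI := hi l
    haveI : IsClosedImmersion (i' l ≫ c) := by rw [hi' l]; infer_instance
    exact IsClosedImmersion.of_comp (i' l) c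
  haveI : IsNoetherian X' := by
    haveI : IsLocallyNoetherian X' := LocallyOfFiniteType.isLocallyNoetherian c
    haveI : CompactSpace X' := QuasiCompact.compactSpace_of_compactSpace c
    exact ⟨⟩
  let m' : ∀ q : Fin n × Fin n, (W q.2).IdealSheafData := fun q => (i' q.1).ker.comap (i' q.2)
  have hkerle : ∀ l, ((i l).ker).comap c ≤ (i' l).ker := fun l =>
    Scheme.IdealSheafData.le_map_iff_comap_le.1 (by rw [Scheme.IdealSheafData.map_ker, hi' l])
  have hcomap : ∀ a b, (i a).ker.comap (i b) = ((i a).ker.comap c).comap (i' b) := fun a b => by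
    rw [← Scheme.IdealSheafData.comap_comp, hi' b]
  have hle : m ≤ m' := fun q => by
    rw [← hm q, hcomap]
    exact (Scheme.IdealSheafData.map_gc (i' q.2)).monotone_l (hkerle q.1)
  have hlt : m < m' := by
    refine lt_of_le_of_ne hle fun heq => ?_
    obtain ⟨V, hpV, e, he, hE⟩ := hc.1 (i' k p)
    have hprod : ((i j).ker.comap c).ideal V ≤ (i' j).ker.ideal V * (J.comap c).ideal V := by
      intro s hs
      have hjJ : (i j).ker ≤ J := Scheme.IdealSheafData.le_support_iff_le_vanishingIdeal.1 (by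
        intro y hy
        rw [Set.mem_singleton_iff.1 hy, ← hp₀]
        exact (i j).range_subset_ker_support ⟨p₀, rfl⟩)
      have hsE : s ∈ (J.comap c).ideal V := (Scheme.IdealSheafData.map_gc c).monotone_l hjJ V hs
      rw [hE, Ideal.mem_span_singleton'] at hsE
      obtain ⟨t, rfl⟩ := hsE
      have hker : t * e ∈ (i' j).ker.ideal V := hkerle j V hs
      rw [hE]
      refine Ideal.mul_mem_mul ?_ (Ideal.mem_span_singleton_self e)
      rw [GrothLib.SchImage.ideal_ker, RingHom.mem_ker] at hker ⊢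
      rw [map_mul] at hker
      by_cases hne : ((i' j ⁻¹ᵁ V.1 : (W j).Opens) : Set (W j)).Nonempty
      · haveI : Nonempty (i' j ⁻¹ᵁ V.1 : (W j).Opens) := hne.to_subtype
        refine (mul_eq_zero.1 hker).resolve_right fun he0 => ?_
        have hηV : genericPoint (W j) ∈ i' j ⁻¹ᵁ V.1 :=
          ((genericPoint_spec (W j)).mem_open_set_iff (i' j ⁻¹ᵁ V.1).isOpen).mpr (by simpa using hne)
        have hns : i' j (genericPoint (W j)) ∉ (J.comap c).support := by
          rw [Scheme.IdealSheafData.support_comap]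
          intro hmem
          have hmem' : c (i' j (genericPoint (W j))) ∈ (J.support : Set X) := hmem
          rw [hJsupp, ← Scheme.Hom.comp_apply, hi' j] at hmem'
          exact hηx j hmem'
        rw [Scheme.IdealSheafData.mem_support_iff_of_mem (show i' j (genericPoint (W j)) ∈ V.1 from hηV), hE,
          Scheme.zeroLocus_span, Scheme.mem_zeroLocus_iff] at hns
        push Not at hns
        obtain ⟨f, hf, hfη⟩ := hns
        rw [Set.mem_singleton_iff.1 hf] at hfη
        have : genericPoint (W j) ∈ (i' j) ⁻¹ᵁ X'.basicOpen e := hfη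
        rw [Scheme.preimage_basicOpen, he0, Scheme.basicOpen_zero] at this
        exact this
      · have hbot : i' j ⁻¹ᵁ V.1 = ⊥ := Opens.ext (Set.not_nonempty_iff_eq_empty.1 hne)
        exact @Subsingleton.elim _ (CommRingCat.subsingleton_of_isTerminal ((W j).sheaf.isTerminalOfEqEmpty hbot)) _ _
    let U : (W k).affineOpens := ⟨i' k ⁻¹ᵁ V.1, V.2.preimage (i' k)⟩
    have hpU : p ∈ U.1 := hpV
    set K := (i j).ker.comap (i k) with hK
    have hKle : K.ideal U ≤ K.ideal U * (U.2.primeIdealOf ⟨p, hpU⟩).asIdeal := by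
      have h1 : K.ideal U = (((i j).ker.comap c).ideal V).map ((i' k).app V.1).hom := by
        rw [hK, hcomap, GrothLib.BlowUp.ideal_comap_eq_map _ (i' k) V U le_rfl, Scheme.Hom.appLE_eq_app]
      have h2 : ((i' j).ker.ideal V).map ((i' k).app V.1).hom = K.ideal U := by
        rw [show K = m' (j, k) from (hm (j, k)).trans (congrFun heq (j, k)),
          show (m' (j, k)).ideal U = ((i' j).ker.comap (i' k)).ideal U from rfl,
          GrothLib.BlowUp.ideal_comap_eq_map _ (i' k) V U le_rfl, Scheme.Hom.appLE_eq_app]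
      have h3 : ((J.comap c).ideal V).map ((i' k).app V.1).hom = (U.2.primeIdealOf ⟨p, hpU⟩).asIdeal := by
        rw [← (GrothLib.ExcP1.vanishingIdeal_point_ideal hpc U hpU).1, ← comap_vanishingIdeal_point (i k) p hpc hxc,
          show (Scheme.IdealSheafData.vanishingIdeal ⟨{i k p}, hxc⟩).comap (i k) = (J.comap c).comap (i' k) by
            rw [← Scheme.IdealSheafData.comap_comp, hi' k],
          GrothLib.BlowUp.ideal_comap_eq_map _ (i' k) V U le_rfl, Scheme.Hom.appLE_eq_app]
      calc K.ideal U = _ := h1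
        _ ≤ _ := Ideal.map_mono hprod
        _ = K.ideal U * _ := by rw [Ideal.map_mul, h2, h3]
    letI : Algebra Γ(W k, U.1) ((W k).presheaf.stalk p) := (W k).presheaf.algebra_section_stalk (⟨p, hpU⟩ : U.1)
    haveI : IsLocalization.AtPrime ((W k).presheaf.stalk p) (U.2.primeIdealOf ⟨p, hpU⟩).asIdeal :=
      U.2.isLocalization_stalk ⟨p, hpU⟩
    have hs := Ideal.map_mono (f := algebraMap Γ(W k, U.1) ((W k).presheaf.stalk p)) hKle
    rw [Ideal.map_mul, show ((U.2.primeIdealOf ⟨p, hpU⟩).asIdeal).map (algebraMap _ ((W k).presheaf.stalk p)) =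
      maximalIdeal _ from IsLocalization.AtPrime.map_eq_maximalIdeal _ _, mul_comm] at hs
    have hbot := Submodule.eq_bot_of_le_smul_of_le_jacobson_bot (maximalIdeal ((W k).presheaf.stalk p)) _
      (IsNoetherian.noetherian _) hs (IsLocalRing.maximalIdeal_le_jacobson ⊥)
    haveI : Nonempty U.1 := ⟨⟨p, hpU⟩⟩
    replace hbot := (Ideal.map_eq_bot_iff_of_injective (f := algebraMap Γ(W k, U.1) ((W k).presheaf.stalk p)) (germ_injective_of_isIntegral (W k) p hpU)).1 hbot
    have hηU : genericPoint (W k) ∈ U.1 := ((genericPoint_spec (W k)).mem_open_set_iff U.1.isOpen).mpr ⟨p, trivial, hpU⟩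
    have hmem : genericPoint (W k) ∈ K.support := by
      rw [Scheme.IdealSheafData.mem_support_iff_of_mem hηU, hbot, Scheme.mem_zeroLocus_iff]
      intro f hf
      rw [show f = 0 from hf, Scheme.basicOpen_zero]
      exact id
    rw [hK, Scheme.IdealSheafData.support_comap] at hmem
    have hmem' : i k (genericPoint (W k)) ∈ ((i j).ker.support : Set X) := hmem
    rw [Scheme.Hom.support_ker, (i j).isClosedEmbedding.isClosed_range.closure_eq] at hmem'
    exact hdist j k hjk hmem'
  obtain ⟨X'', c', i'', hc', hi'', hcomm, hdisj'⟩ := ih m' hlt X' inferInstance i' hi'c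
    (fun a b hab ⟨w, hw⟩ => hdist a b hab ⟨w, by
      rw [← hi' a, ← hi' b, Scheme.Hom.comp_apply, Scheme.Hom.comp_apply, hw]⟩) fun q => rfl
  exact ⟨X'', c' ≫ c, i'',
    isPtBlowupSeq_trans hc' (by simpa using Resolve.IsPtBlowupSeq.step c _ (i k p) hxc hc (.iso (Iso.refl X))),
    hi'', fun l => by rw [reassoc_of% hcomm l, hi' l], hdisj'⟩

theorem exists_strictTransforms_disjoint {X : Scheme.{u}} [IsNoetherian X] {n : ℕ}
    (I : Fin n → X.IdealSheafData) [∀ k, IsIntegral (I k).subscheme] (hdim : ∀ k, topologicalKrullDim ↥(I k).subscheme = 1)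
    [∀ k, QuasiCompact ((I k).subscheme.fromSpecStalk (genericPoint ↥(I k).subscheme))]
    [∀ k, QuasiSeparated ((I k).subscheme.fromSpecStalk (genericPoint ↥(I k).subscheme))]
    (hfin : ∀ k, IsFinite (Curv2.normalizationι (I k).subscheme)) (hdist : Function.Injective I) :
    ∃ (X' : Scheme.{u}) (g : X' ⟶ X), Resolve.IsPtBlowupSeq g ∧
      ∃ (I' : Fin n → X'.IdealSheafData) (g' : ∀ k, (I' k).subscheme ⟶ (I k).subscheme),
        (∀ k, IsIntegral (I' k).subscheme ∧ g' k ≫ (I k).subschemeι = (I' k).subschemeι ≫ g ∧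
          (∃ V : (I k).subscheme.Opens, (V : Set ↥(I k).subscheme).Nonempty ∧ IsIso (g' k ∣_ V)) ∧
          ∀ y : ↥(I' k).subscheme, IsRegularLocalRing ((I' k).subscheme.presheaf.stalk y)) ∧
        ∀ j k, j ≠ k → Disjoint ((I' j).support : Set X') ((I' k).support : Set X') := by
  haveI hnoeth : ∀ k, IsNoetherian (I k).subscheme := fun k => by
    haveI : IsLocallyNoetherian (I k).subscheme := LocallyOfFiniteType.isLocallyNoetherian (I k).subschemeι
    haveI : CompactSpace (I k).subscheme := QuasiCompact.compactSpace_of_compactSpace (I k).subschemeι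
    exact ⟨⟩
  haveI := hfin
  have hη := fun k => not_isClosed_genericPoint (hdim k)
  have D₀ : ∀ k, CurveData (Curv2.normalization (I k).subscheme) (I k).subscheme X X (𝟙 X) (I k).subschemeι := fun k =>
    { W := (I k).subscheme, i := (I k).subschemeι, h := 𝟙 _, q := Curv2.normalizationι _, hW := inferInstance,
      hi := inferInstance, hq := hfin k,
      hqd := by
        obtain ⟨V, hV, hVi⟩ := GrothLib.NormFib.exists_isIso_of_finite (hfin k)
        haveI := hVi
        exact isDominant_of_isIso_over _ V hV,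
      hh := inferInstance, hcomm := by rw [Category.id_comp, Category.comp_id],
      hiso := ⟨⊤, ⟨genericPoint (I k).subscheme, trivial⟩, inferInstance⟩ }
  obtain ⟨X₁, g₁, hg₁, D, hD⟩ := exists_all_regular (fun k => isRegular_normalization (hdim k).le (hfin k))
    (fun k => (hdim k).le) hη D₀ n le_rfl
  haveI := isNoetherian_of_seq hg₁
  haveI : ∀ k, IsIntegral (D k).W := fun k => (D k).hW
  haveI : ∀ k, IsFinite (D k).h := fun k => (D k).hh
  haveI hDn : ∀ k, IsNoetherian (D k).W := fun k => by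
    haveI : IsLocallyNoetherian (D k).W := LocallyOfFiniteType.isLocallyNoetherian (D k).h
    haveI : CompactSpace (D k).W := QuasiCompact.compactSpace_of_compactSpace (D k).h
    exact ⟨⟩
  have hdom : ∀ k, IsDominant (D k).h := fun k => by
    obtain ⟨V, hV, hVi⟩ := (D k).hiso
    haveI := hVi
    exact isDominant_of_isIso_over _ V hV
  obtain ⟨X', c, i', hc, hi', hcomm, hdisj⟩ := exists_disjoint_of_regular (fun k => (D k).W) (fun k => hD k k.2)
    (fun k => (GrothLib.AlgSp.topologicalKrullDim_le_of_isIntegralHom (D k).h).trans (hdim k).le)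
    (fun k hcl => hη k (by
      haveI := hdom k
      have h2 := (D k).h.isClosedMap _ hcl
      rwa [Set.image_singleton, genericPoint_map' (D k).h] at h2))
    X₁ (fun k => (D k).i) (fun k => (D k).hi) (by
      rintro j k hjk ⟨w, hw⟩
      haveI := hdom k
      have h1 := congrArg g₁ hw
      rw [← Scheme.Hom.comp_apply, ← Scheme.Hom.comp_apply, ← (D j).hcomm, ← (D k).hcomm, Scheme.Hom.comp_apply,
        Scheme.Hom.comp_apply, genericPoint_map' (D k).h] at h1
      by_cases hy : (D j).h w = genericPoint (I j).subscheme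
      · rw [hy] at h1
        refine hjk (hdist ?_)
        have hcl : ∀ l, (I l) = Scheme.IdealSheafData.vanishingIdeal
            ⟨closure {(I l).subschemeι (genericPoint (I l).subscheme)}, isClosed_closure⟩ := fun l => by
          conv_lhs => rw [← Scheme.IdealSheafData.ker_subschemeι (I l)]
          rw [GrothLib.SchImage.ker_eq_vanishingIdeal]
          congr 1
          refine Closeds.ext ?_
          show closure (Set.range (I l).subschemeι) = closure {(I l).subschemeι (genericPoint (I l).subscheme)}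
          have h := ((genericPoint_spec (I l).subscheme).image (I l).subschemeι.continuous).def
          rw [Set.image_univ] at h
          exact h.symm
        rw [hcl j, hcl k]
        congr 1
        exact Closeds.ext (by show closure _ = closure _; rw [h1])
      · have hyc := GrothLib.CDivLib.isClosed_singleton_of_ne (hdim j).le hy
        have hxc := (I j).subschemeι.isClosedEmbedding.isClosedMap _ hyc
        rw [Set.image_singleton, h1] at hxc
        refine hη k ?_
        have h3 := hxc.preimage (I k).subschemeι.continuous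
        rwa [show (I k).subschemeι ⁻¹' {(I k).subschemeι (genericPoint (I k).subscheme)} = {genericPoint (I k).subscheme} from
          Set.ext fun v => (I k).subschemeι.isEmbedding.injective.eq_iff] at h3)
  refine ⟨X', c ≫ g₁, isPtBlowupSeq_trans hc hg₁, fun k => (i' k).ker,
    fun k => haveI := hi' k; (asIso (i' k).toImage).inv ≫ (D k).h, fun k => ?_, fun j k hjk => ?_⟩
  · haveI := hi' k
    let e := asIso (i' k).toImage
    haveI : Nonempty ((i' k).ker.subscheme) := ⟨(i' k).toImage (genericPoint (D k).W)⟩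
    obtain ⟨V, hV, hVi⟩ := (D k).hiso
    haveI := hVi
    refine ⟨isIntegral_of_isOpenImmersion e.inv, ?_, ⟨V, hV, ?_⟩, fun y => ?_⟩
    · rw [Category.assoc, (D k).hcomm, ← hcomm k, Category.assoc, ← Category.assoc (e.inv)]
      congr 1
      rw [Iso.inv_comp_eq]
      exact (Scheme.Hom.toImage_imageι (i' k)).symm
    · rw [morphismRestrict_comp]
      infer_instance
    · haveI := hD k k.2 (e.inv y)
      exact IsRegularLocalRing.of_ringEquiv (R := (D k).W.presheaf.stalk (e.inv y))
        (asIso (e.inv.stalkMap y)).commRingCatIsoToRingEquiv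
  · haveI := hi' j; haveI := hi' k
    rw [Scheme.Hom.support_ker, Scheme.Hom.support_ker, (i' j).isClosedEmbedding.isClosed_range.closure_eq,
      (i' k).isClosedEmbedding.isClosed_range.closure_eq]
    exact hdisj j k hjk

end GrothLib.CurveResol29
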