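import Groth.Agent.Lib.CurveResol29.Basic
import Groth.Agent.Lib.ExcP1.Elim
import Groth.Agent.Lib.BlowUpProper.Basic
import Groth.Agent.Lib.BlowUp.Functorial
import Groth.Agent.Lib.BlowUp.IdealComap
import Groth.Agent.Lib.CDivLib.Basic
import Groth.Agent.S2348
import Groth.Prelude.Def_ResolveSeq
import Mathlib.RingTheory.DiscreteValuationRing.TFAE
import Mathlib.Data.DFinsupp.WellFounded

/-!
# Resolution of curves by point blow-ups
-/

set_option autoImplicit false
set_option linter.all false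
set_option backward.isDefEq.respectTransparency false

universe u

open CategoryTheory AlgebraicGeometry TopologicalSpace IsLocalRing
open GrothLib.CartierDescent

noncomputable section

namespace GrothLib.CurveResol29

theorem genericPoint_map' {X Y : Scheme.{u}} [IsIntegral X] [IsIntegral Y] (g : X ⟶ Y) [IsDominant g] :
    g (genericPoint X) = genericPoint Y := by
  have h := (genericPoint_spec X).image g.continuous
  rw [Set.image_univ, g.denseRange.closure_range] at h
  exact h.eq (genericPoint_spec Y)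

theorem restrict_apply {X Y : Scheme.{u}} (f : X ⟶ Y) (U : Y.Opens) (x : (f ⁻¹ᵁ U).toScheme) :
    ((f ∣_ U) x).1 = f x.1 := congrArg (fun φ => φ x) (morphismRestrict_ι f U)

/-- On a regular curve an ideal not containing the generic point in its support is invertible. -/
theorem isEffCartierIdeal_of_regular_curve {N : Scheme.{u}} [IsIntegral N] [IsLocallyNoetherian N]
    (hreg : ∀ x : N, IsRegularLocalRing (N.presheaf.stalk x)) (hdim : topologicalKrullDim N ≤ 1)
    (I : N.IdealSheafData) (hη : genericPoint N ∉ I.support) : _root_.BlowUp.IsEffCartierIdeal I := by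
  intro x
  haveI := hreg x
  have hd : ringKrullDim (N.presheaf.stalk x) ≤ 1 := by
    refine le_trans ?_ hdim
    rw [← PrimeSpectrum.topologicalKrullDim_eq_ringKrullDim]
    exact (N.fromSpecStalk x).isEmbedding.isInducing.topologicalKrullDim_le
  haveI : IsPrincipalIdealRing (N.presheaf.stalk x) := by
    refine ((tfae_of_isNoetherianRing_of_isLocalRing_of_isDomain (N.presheaf.stalk x)).out 5 0).1 ?_
    have h := (IsRegularLocalRing.iff_finrank_cotangentSpace (N.presheaf.stalk x)).1 inferInstance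
    rw [← h] at hd
    exact_mod_cast hd
  obtain ⟨_, ⟨U, hU, rfl⟩, hxU, -⟩ :=
    N.isBasis_affineOpens.exists_subset_of_mem_open (Set.mem_univ x) isOpen_univ
  haveI : Nonempty U := ⟨⟨x, hxU⟩⟩
  have hηU : genericPoint N ∈ U := ((genericPoint_spec N).mem_open_set_iff U.isOpen).mpr ⟨x, trivial, hxU⟩
  obtain ⟨γ, hγ⟩ := (IsPrincipalIdealRing.principal (stalkIdeal I x)).principal
  have hne : γ ≠ 0 := by
    rintro rfl
    rw [Submodule.span_zero_singleton, stalkIdeal_eq I ⟨U, hU⟩ hxU, Ideal.map_eq_bot_iff_of_injective] at hγ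
    · have h1 := (stalkIdeal_eq_top_iff I (genericPoint N)).2 hη
      rw [stalkIdeal_eq I ⟨U, hU⟩ hηU, hγ, Ideal.map_bot] at h1
      exact bot_ne_top h1
    · exact germ_injective_of_isIntegral N x hxU
  exact GrothLib.ExcP1.exists_cartier_nhd I (GrothLib.ExcP1.nu_eq_zero_of_span (mem_nonZeroDivisors_of_ne_zero hne) hγ)

/-- The inverse image of a reduced point along a closed immersion is the reduced point. -/
theorem comap_vanishingIdeal_point {W X : Scheme.{u}} (i : W ⟶ X) [IsClosedImmersion i] (z : W)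
    (hz : IsClosed ({z} : Set W)) (hiz : IsClosed ({i z} : Set X)) :
    (Scheme.IdealSheafData.vanishingIdeal ⟨{i z}, hiz⟩).comap i = Scheme.IdealSheafData.vanishingIdeal ⟨{z}, hz⟩ := by
  set J := Scheme.IdealSheafData.vanishingIdeal ⟨{i z}, hiz⟩
  have hsupp : ((J.comap i).support : Set W) = {z} := by
    rw [Scheme.IdealSheafData.support_comap, Closeds.coe_preimage, Scheme.IdealSheafData.coe_support_vanishingIdeal]
    ext w
    exact ⟨fun h => i.isEmbedding.injective h, fun h => congrArg i h⟩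
  have hle : J.comap i ≤ Scheme.IdealSheafData.vanishingIdeal ⟨{z}, hz⟩ :=
    Scheme.IdealSheafData.le_support_iff_le_vanishingIdeal.1 fun w hw => hsupp.ge hw
  refine Scheme.IdealSheafData.ext_of_iSup_eq_top (fun U : X.affineOpens => ⟨i ⁻¹ᵁ U.1, U.2.preimage i⟩) ?_ fun U => ?_
  · exact eq_top_iff.2 fun w _ => by
      obtain ⟨_, ⟨U, hU, rfl⟩, hwU, -⟩ :=
        X.isBasis_affineOpens.exists_subset_of_mem_open (Set.mem_univ (i w)) isOpen_univ
      exact Opens.mem_iSup.2 ⟨⟨U, hU⟩, hwU⟩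
  · refine le_antisymm (hle _) ?_
    have heq : (J.comap i).ideal ⟨i ⁻¹ᵁ U.1, U.2.preimage i⟩ = (J.ideal U).map (i.app U.1).hom := by
      rw [GrothLib.BlowUp.ideal_comap_eq_map J i U ⟨i ⁻¹ᵁ U.1, U.2.preimage i⟩ le_rfl, Scheme.Hom.appLE_eq_app]
    by_cases hzU : i z ∈ U.1
    · obtain ⟨h1, h2⟩ := GrothLib.ExcP1.vanishingIdeal_point_ideal hiz U hzU
      obtain ⟨h3, h4⟩ := GrothLib.ExcP1.vanishingIdeal_point_ideal hz ⟨i ⁻¹ᵁ U.1, U.2.preimage i⟩ hzU
      rw [h3, heq, h1]
      have hne := hle ⟨i ⁻¹ᵁ U.1, U.2.preimage i⟩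
      rw [h3, heq, h1] at hne
      rcases Ideal.map_eq_top_or_isMaximal_of_surjective (i.app U.1).hom (i.app_surjective U.1 U.2) h2 with h | h
      · exact absurd (top_le_iff.1 (h ▸ hne)) h4.ne_top
      · exact (h.eq_of_le h4.ne_top hne).ge
    · rw [heq, show J.ideal U = ⊤ from ?_, Ideal.map_top]
      · exact le_top
      · rw [Scheme.IdealSheafData.vanishingIdeal_ideal]
        show PrimeSpectrum.vanishingIdeal (U.2.fromSpec ⁻¹' {i z}) = ⊤
        rw [show U.2.fromSpec ⁻¹' {i z} = ∅ from Set.eq_empty_iff_forall_notMem.2 fun p hp => hzU (by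
          rw [← Set.mem_singleton_iff.1 hp]
          exact U.2.range_fromSpec.le ⟨p, rfl⟩), PrimeSpectrum.vanishingIdeal_empty]

/-- Pullback of sections along a dominant morphism into an integral scheme is injective. -/
theorem appLE_injective {N W : Scheme.{u}} [IsIntegral N] [IsIntegral W] (q : N ⟶ W) [IsDominant q] (U : W.Opens)
    (V : N.Opens) (e : V ≤ q ⁻¹ᵁ U) (hV : q ⁻¹ᵁ U ≤ V) : Function.Injective (q.appLE U V e) := by
  obtain rfl : V = q ⁻¹ᵁ U := le_antisymm e hV
  intro a b hab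
  by_cases hne : (U : Set W).Nonempty
  · have hη : q (genericPoint N) ∈ U := by
      rw [genericPoint_map' q]
      exact ((genericPoint_spec W).mem_open_set_iff U.isOpen).mpr (by simpa using hne)
    refine germ_injective_of_isIntegral W (q (genericPoint N)) hη ?_
    have hfield : IsField (W.presheaf.stalk (q (genericPoint N))) := by
      rw [genericPoint_map' q]
      exact Field.toIsField W.functionField
    letI := hfield.toField
    refine (q.stalkMap (genericPoint N)).hom.injective ?_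
    rw [← CommRingCat.comp_apply, ← CommRingCat.comp_apply, Scheme.Hom.germ_stalkMap q U (genericPoint N) hη,
      CommRingCat.comp_apply, CommRingCat.comp_apply]
    rw [Scheme.Hom.appLE_eq_app] at hab
    exact congrArg _ hab
  · have h : U = ⊥ := Opens.ext (Set.not_nonempty_iff_eq_empty.1 hne)
    exact @Subsingleton.elim _ (CommRingCat.subsingleton_of_isTerminal (W.sheaf.isTerminalOfEqEmpty h)) a b

section Measure

variable {N Y : Scheme.{u}} (ν : N ⟶ Y)

/-- The sections of an intermediate curve inside those of the normalization. -/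
def img (U : Y.Opens) {W : Scheme.{u}} (q : N ⟶ W) (h : W ⟶ Y) (hq : q ≫ h = ν) :
    letI := (ν.app U).hom.toAlgebra; Submodule Γ(Y, U) Γ(N, ν ⁻¹ᵁ U) :=
  letI := (ν.app U).hom.toAlgebra
  { carrier := Set.range (q.appLE (h ⁻¹ᵁ U) (ν ⁻¹ᵁ U) (by rw [← hq, Scheme.Hom.comp_preimage]))
    add_mem' := by rintro _ _ ⟨a, rfl⟩ ⟨b, rfl⟩; exact ⟨a + b, map_add _ _ _⟩
    zero_mem' := ⟨0, map_zero _⟩
    smul_mem' := by
      rintro a _ ⟨w, rfl⟩
      refine ⟨h.app U a * w, ?_⟩
      rw [map_mul, Algebra.smul_def]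
      congr 1
      show (h.app U ≫ q.appLE (h ⁻¹ᵁ U) (ν ⁻¹ᵁ U) _) a = ν.app U a
      subst hq
      rw [Scheme.Hom.app_eq_appLE, Scheme.Hom.appLE_comp_appLE, Scheme.Hom.app_eq_appLE] }

end Measure

theorem exists_pointBlowups_regular {N Y X₀ : Scheme.{u}} [IsIntegral N] [IsIntegral Y] [IsNoetherian Y]
    [IsNoetherian X₀] (hregN : ∀ x : N, IsRegularLocalRing (N.presheaf.stalk x))
    (hdim : topologicalKrullDim Y ≤ 1) (ν : N ⟶ Y) [IsFinite ν] [IsDominant ν] (i₀ : Y ⟶ X₀) [IsClosedImmersion i₀] :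
    ∃ (X' : Scheme.{u}) (g : X' ⟶ X₀) (Y' : Scheme.{u}) (g' : Y' ⟶ Y) (i' : Y' ⟶ X'),
      Resolve.IsPtBlowupSeq g ∧ Resolve.IsPtBlowupSeq g' ∧ IsClosedImmersion i' ∧ g' ≫ i₀ = i' ≫ g ∧ IsIntegral Y' ∧
      (∃ V : Y.Opens, (V : Set Y).Nonempty ∧ IsIso (g' ∣_ V)) ∧
      (∀ y : Y', IsRegularLocalRing (Y'.presheaf.stalk y)) ∧ IsFinite g' ∧
      ∃ q' : N ⟶ Y', IsFinite q' ∧ IsDominant q' := by
  classical
  obtain ⟨s, hs⟩ := (isCompact_univ (X := Y)).elim_finite_subcover (fun U : Y.affineOpens => (U.1 : Set Y))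
    (fun U => U.1.2) (fun y _ => by
      obtain ⟨_, ⟨U, hU, rfl⟩, hyU, -⟩ :=
        Y.isBasis_affineOpens.exists_subset_of_mem_open (Set.mem_univ y) isOpen_univ
      exact Set.mem_iUnion.2 ⟨⟨U, hU⟩, hyU⟩)
  letI alg : ∀ U : s, Algebra Γ(Y, U.1.1) Γ(N, ν ⁻¹ᵁ U.1.1) := fun U => (ν.app U.1.1).hom.toAlgebra
  have hfin : ∀ U : s, IsNoetherian Γ(Y, U.1.1) Γ(N, ν ⁻¹ᵁ U.1.1) := fun U => by
    haveI : IsNoetherianRing Γ(Y, U.1.1) := IsLocallyNoetherian.component_noetherian U.1
    haveI : Module.Finite Γ(Y, U.1.1) Γ(N, ν ⁻¹ᵁ U.1.1) := RingHom.finite_algebraMap.mp (ν.finite_app U.1.1 U.1.2)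
    exact isNoetherian_of_isNoetherianRing_of_finite _ _
  haveI : ∀ U : s, WellFoundedGT (Submodule Γ(Y, U.1.1) Γ(N, ν ⁻¹ᵁ U.1.1)) := fun U => (hfin U).wellFoundedGT
  haveI : WellFoundedGT (∀ U : s, Submodule Γ(Y, U.1.1) Γ(N, ν ⁻¹ᵁ U.1.1)) :=
    ⟨(Pi.wellFoundedLT (α := fun U : s => (Submodule Γ(Y, U.1.1) Γ(N, ν ⁻¹ᵁ U.1.1))ᵒᵈ)).wf⟩
  suffices key : ∀ (m : ∀ U : s, Submodule Γ(Y, U.1.1) Γ(N, ν ⁻¹ᵁ U.1.1)) (W : Scheme.{u}) (_ : IsIntegral W)
      (h : W ⟶ Y) (q : N ⟶ W) (hq : q ≫ h = ν), IsFinite h → IsDominant q →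
      Resolve.IsPtBlowupSeq h → (∃ V : Y.Opens, (V : Set Y).Nonempty ∧ IsIso (h ∣_ V)) →
      ∀ (X : Scheme.{u}) (_ : IsNoetherian X) (g : X ⟶ X₀) (i : W ⟶ X), IsClosedImmersion i →
      Resolve.IsPtBlowupSeq g → h ≫ i₀ = i ≫ g → (∀ U : s, img ν U.1.1 q h hq = m U) →
      ∃ (X' : Scheme.{u}) (g : X' ⟶ X₀) (Y' : Scheme.{u}) (g' : Y' ⟶ Y) (i' : Y' ⟶ X'),
        Resolve.IsPtBlowupSeq g ∧ Resolve.IsPtBlowupSeq g' ∧ IsClosedImmersion i' ∧ g' ≫ i₀ = i' ≫ g ∧ IsIntegral Y' ∧
        (∃ V : Y.Opens, (V : Set Y).Nonempty ∧ IsIso (g' ∣_ V)) ∧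
        (∀ y : Y', IsRegularLocalRing (Y'.presheaf.stalk y)) ∧ IsFinite g' ∧
        ∃ q' : N ⟶ Y', IsFinite q' ∧ IsDominant q' by
    exact key _ Y inferInstance (𝟙 Y) ν (Category.comp_id ν) inferInstance inferInstance (.iso (Iso.refl Y))
      ⟨⊤, ⟨genericPoint Y, trivial⟩, inferInstance⟩ X₀ inferInstance (𝟙 X₀) i₀ inferInstance (.iso (Iso.refl X₀))
      (by rw [Category.id_comp, Category.comp_id]) fun U => rfl
  intro m
  induction m using WellFoundedGT.induction with
  | _ m ih =>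
  intro W hW h q hq hfinh hdomq hseq hiso X hX g i hi hgseq hcomm hm
  haveI := hW; haveI := hfinh; haveI := hdomq; haveI := hi; haveI := hX
  haveI : IsLocallyNoetherian W := LocallyOfFiniteType.isLocallyNoetherian h
  haveI : IsLocallyNoetherian N := LocallyOfFiniteType.isLocallyNoetherian ν
  have hdimW : topologicalKrullDim W ≤ 1 := (GrothLib.AlgSp.topologicalKrullDim_le_of_isIntegralHom h).trans hdim
  have hdimN : topologicalKrullDim N ≤ 1 := (GrothLib.AlgSp.topologicalKrullDim_le_of_isIntegralHom ν).trans hdim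
  by_cases hreg : ∀ w : W, IsRegularLocalRing (W.presheaf.stalk w)
  · haveI : IsFinite (q ≫ h) := by rw [hq]; infer_instance
    exact ⟨X, g, W, h, i, hgseq, hseq, hi, hcomm, hW, hiso, hreg, hfinh, q, IsFinite.of_comp q h, hdomq⟩
  push Not at hreg
  obtain ⟨z, hzsing⟩ := hreg
  have hzη : z ≠ genericPoint W := by
    rintro rfl
    exact hzsing (inferInstanceAs (IsRegularLocalRing W.functionField))
  have hz : IsClosed ({z} : Set W) := GrothLib.CDivLib.isClosed_singleton_of_ne hdimW hzη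
  have hiz : IsClosed ({i z} : Set X) := by
    rw [← Set.image_singleton]
    exact i.isClosedEmbedding.isClosedMap _ hz
  set J := Scheme.IdealSheafData.vanishingIdeal (X := W) ⟨{z}, hz⟩
  have hJsupp : (J.support : Set W) = {z} := Scheme.IdealSheafData.coe_support_vanishingIdeal _
  have hJbot : J ≠ ⊥ := fun h0 => hzη (by
    have : genericPoint W ∈ (J.support : Set W) := by rw [h0, Scheme.IdealSheafData.support_bot]; trivial
    rw [hJsupp] at this
    exact this.symm)
  obtain ⟨W', b, hb⟩ := GrothLib.BlowUp.exists_isBlowUp W J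
  obtain ⟨hW', hgen, -⟩ := Groth.Agent.S2348.result J hJbot b hb
  haveI := hW'
  haveI : IsProper b := GrothLib.BlowUpProper.isProper_of_isBlowUp hb
  -- the normalization factors through the blow-up
  have hηsupp : genericPoint N ∉ (J.comap q).support := by
    rw [Scheme.IdealSheafData.support_comap]
    intro hmem
    have hmem' : q (genericPoint N) ∈ (J.support : Set W) := hmem
    rw [genericPoint_map' q, hJsupp] at hmem'
    exact hzη hmem'.symm
  obtain ⟨q', hq', -⟩ := hb.2 N q (isEffCartierIdeal_of_regular_curve hregN hdimN _ hηsupp)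
  haveI : IsFinite q := by
    haveI : IsFinite (q ≫ h) := by rw [hq]; infer_instance
    exact IsFinite.of_comp q h
  haveI : IsFinite q' := by
    haveI : IsFinite (q' ≫ b) := by rw [hq']; infer_instance
    exact IsFinite.of_comp q' b
  haveI hisoU := GrothLib.BlowUp.isIso_off_center hb
  have hηU : genericPoint W ∈ J.support.compl := by
    show genericPoint W ∉ (J.support : Set W)
    rw [hJsupp]
    exact fun h0 => hzη h0.symm
  have hq'η : q' (genericPoint N) = genericPoint W' := by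
    have h1 : b (q' (genericPoint N)) = genericPoint W := by
      rw [← Scheme.Hom.comp_apply, hq', genericPoint_map' q]
    have hmem1 : q' (genericPoint N) ∈ b ⁻¹ᵁ J.support.compl := by
      show b (q' (genericPoint N)) ∈ J.support.compl
      rw [h1]; exact hηU
    have hmem2 : genericPoint W' ∈ b ⁻¹ᵁ J.support.compl := by
      show b (genericPoint W') ∈ J.support.compl
      rw [hgen]; exact hηU
    refine congrArg Subtype.val ((b ∣_ J.support.compl).homeomorph.injective (a₁ := ⟨_, hmem1⟩) (a₂ := ⟨_, hmem2⟩) ?_)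
    exact Subtype.ext ((restrict_apply b _ _).trans ((h1.trans hgen.symm).trans (restrict_apply b _ ⟨_, hmem2⟩).symm))
  haveI : IsDominant q' := ⟨dense_iff_closure_eq.2 (top_unique fun y _ =>
    ((genericPoint_spec W').specializes trivial).mem_closed isClosed_closure (subset_closure ⟨_, hq'η⟩))⟩
  have hq'surj : Function.Surjective q' := fun y => by
    have h1 : IsClosed (Set.range q') := q'.isClosedMap.isClosed_range
    have h2 := q'.denseRange.closure_range
    rw [h1.closure_eq] at h2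
    exact h2.ge trivial
  haveI : LocallyQuasiFinite b := LocallyQuasiFinite.of_finite_preimage_singleton b fun x => by
    refine Set.Finite.subset ((q.finite_preimage_singleton x).image q') fun y hy => ?_
    obtain ⟨n, rfl⟩ := hq'surj y
    exact ⟨n, by show q n = x; rw [← hq', Scheme.Hom.comp_apply]; exact hy, rfl⟩
  haveI : IsFinite b := IsFinite.of_isProper_of_locallyQuasiFinite b
  have hnotiso : ¬ IsIso b := fun hbi => hzsing (by
    have hc := GrothLib.BlowUp.isEffCartierIdeal_comap_of_flat (inv b) hb.1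
    rw [← Scheme.IdealSheafData.comap_comp, IsIso.inv_hom_id, Scheme.IdealSheafData.comap_id] at hc
    obtain ⟨γ, hγ, hspan⟩ := exists_stalk_generator hc z
    rw [GrothLib.ExcP1.stalkIdeal_vanishingIdeal hz] at hspan
    have hp : (maximalIdeal (W.presheaf.stalk z)).IsPrincipal := ⟨⟨γ, hspan⟩⟩
    haveI : IsPrincipalIdealRing (W.presheaf.stalk z) :=
      ((tfae_of_isNoetherianRing_of_isLocalRing_of_isDomain (W.presheaf.stalk z)).out 4 0).1 hp
    infer_instance)
  -- the ambient blow-up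
  obtain ⟨X', c, hc⟩ := GrothLib.BlowUp.exists_isBlowUp X (Scheme.IdealSheafData.vanishingIdeal ⟨{i z}, hiz⟩)
  haveI : IsProper c := GrothLib.BlowUpProper.isProper_of_isBlowUp hc
  haveI : IsNoetherian X' := by
    haveI : IsLocallyNoetherian X' := LocallyOfFiniteType.isLocallyNoetherian c
    haveI : CompactSpace X' := QuasiCompact.compactSpace_of_compactSpace c
    exact ⟨⟩
  have hJcomap := comap_vanishingIdeal_point i z hz hiz
  obtain ⟨i', hi', -⟩ := hc.2 W' (b ≫ i) (by
    rw [Scheme.IdealSheafData.comap_comp, hJcomap]; exact hb.1)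
  haveI : IsClosedImmersion i' := GrothLib.BlowUp.isClosedImmersion_map _ i hc (by rw [hJcomap]; exact hb) i' hi'
  -- the open set where the composite is an isomorphism
  have hiso' : ∃ V : Y.Opens, (V : Set Y).Nonempty ∧ IsIso ((b ≫ h) ∣_ V) := by
    obtain ⟨V, hV, hVi⟩ := hiso
    have hcl : IsClosed ({h z} : Set Y) := by
      rw [← Set.image_singleton]
      exact h.isClosedMap _ hz
    let O : Y.Opens := ⟨({h z} : Set Y)ᶜ, hcl.isOpen_compl⟩
    have hη : genericPoint Y ∈ V := ((genericPoint_spec Y).mem_open_set_iff V.isOpen).mpr (by simpa using hV)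
    haveI : IsDominant h := by
      haveI : IsDominant (q ≫ h) := by rw [hq]; infer_instance
      exact IsDominant.of_comp q h
    have hηO : genericPoint Y ∈ O := fun h0 => by
      haveI := hVi
      have hh : h (genericPoint W) = genericPoint Y := genericPoint_map' h
      have hz1 : z ∈ h ⁻¹ᵁ V := by
        show h z ∈ V
        rw [← Set.mem_singleton_iff.1 h0]; exact hη
      have hz2 : genericPoint W ∈ h ⁻¹ᵁ V := by
        show h (genericPoint W) ∈ V
        rw [hh]; exact hη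
      refine hzη (congrArg Subtype.val ((h ∣_ V).homeomorph.injective (a₁ := ⟨z, hz1⟩) (a₂ := ⟨_, hz2⟩) ?_))
      exact Subtype.ext ((restrict_apply h _ _).trans
        (((Set.mem_singleton_iff.1 h0).symm.trans hh.symm).trans (restrict_apply h _ ⟨_, hz2⟩).symm))
    haveI := hVi
    refine ⟨V ⊓ O, ⟨_, hη, hηO⟩, ?_⟩
    haveI := GrothLib.Nagata6.isIso_restrict_of_le h V (V ⊓ O) inf_le_left
    haveI := GrothLib.Nagata6.isIso_restrict_of_le b J.support.compl (h ⁻¹ᵁ (V ⊓ O)) fun w hw => by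
      show w ∉ (J.support : Set W)
      rw [hJsupp]
      intro hwz
      exact hw.2 (congrArg h (Set.mem_singleton_iff.1 hwz))
    rw [morphismRestrict_comp]
    infer_instance
  -- the measure goes up
  have hbh : q' ≫ b ≫ h = ν := by rw [reassoc_of% hq', hq]
  let m' : ∀ U : s, Submodule Γ(Y, U.1.1) Γ(N, ν ⁻¹ᵁ U.1.1) := fun U => img ν U.1.1 q' (b ≫ h) hbh
  have hle : m ≤ m' := fun U => by
    rw [← hm U]
    rintro _ ⟨w, rfl⟩
    refine ⟨b.app (h ⁻¹ᵁ U.1.1) w, ?_⟩
    show (b.app (h ⁻¹ᵁ U.1.1) ≫ q'.appLE (b ⁻¹ᵁ h ⁻¹ᵁ U.1.1) (ν ⁻¹ᵁ U.1.1) _) w = q.appLE _ _ _ w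
    subst hq'
    rw [Scheme.Hom.app_eq_appLE, Scheme.Hom.appLE_comp_appLE]
  have hlt : m < m' := by
    refine lt_of_le_of_ne hle fun heq => hnotiso ?_
    have hcov : (⨆ U : s, h ⁻¹ᵁ U.1.1) = ⊤ := eq_top_iff.2 fun w _ => by
      obtain ⟨U, hU, hwU⟩ := Set.mem_iUnion₂.1 (hs (Set.mem_univ (h w)))
      exact Opens.mem_iSup.2 ⟨⟨U, hU⟩, hwU⟩
    refine (HasAffineProperty.iff_of_iSup_eq_top (P := MorphismProperty.isomorphisms Scheme)
      (fun U : s => (⟨h ⁻¹ᵁ U.1.1, U.1.2.preimage h⟩ : W.affineOpens)) hcov).2 fun U => ⟨(U.1.2.preimage h).preimage b, ?_⟩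
    have hbij : Function.Bijective (b.app (h ⁻¹ᵁ U.1.1)) := by
      have hcomp : ∀ w, q'.appLE (b ⁻¹ᵁ h ⁻¹ᵁ U.1.1) (ν ⁻¹ᵁ U.1.1) (by rw [← hbh]; rfl) (b.app (h ⁻¹ᵁ U.1.1) w) =
          q.appLE (h ⁻¹ᵁ U.1.1) (ν ⁻¹ᵁ U.1.1) (by rw [← hq]; rfl) w := fun w => by
        show (b.app (h ⁻¹ᵁ U.1.1) ≫ q'.appLE _ _ _) w = _
        subst hq'
        rw [Scheme.Hom.app_eq_appLE, Scheme.Hom.appLE_comp_appLE]
      refine ⟨fun a a' haa => ?_, fun w' => ?_⟩
      · refine appLE_injective q (h ⁻¹ᵁ U.1.1) (ν ⁻¹ᵁ U.1.1) (by rw [← hq]; rfl) (by rw [← hq]; rfl) ?_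
        rw [← hcomp, ← hcomp, haa]
      · have hmem : q'.appLE (b ⁻¹ᵁ h ⁻¹ᵁ U.1.1) (ν ⁻¹ᵁ U.1.1) (by rw [← hbh]; rfl) w' ∈ m' U := ⟨w', rfl⟩
        rw [← congrFun heq U, ← hm U] at hmem
        obtain ⟨w, hw⟩ := hmem
        exact ⟨w, appLE_injective q' _ (ν ⁻¹ᵁ U.1.1) (by rw [← hbh]; rfl) (by rw [← hbh]; rfl) ((hcomp w).trans hw)⟩
    haveI : IsIso (b.app (h ⁻¹ᵁ U.1.1)) := (ConcreteCategory.isIso_iff_bijective _).2 hbij
    rw [Scheme.Hom.appTop, morphismRestrict_app]
    haveI : IsIso (b.app ((h ⁻¹ᵁ U.1.1).ι ''ᵁ ⊤)) := by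
      rw [Scheme.Opens.ι_image_top]
      infer_instance
    infer_instance
  exact ih m' hlt W' inferInstance (b ≫ h) q' hbh inferInstance inferInstance (.step b h z hz hb hseq) hiso'
    X' inferInstance (c ≫ g) i' inferInstance (.step c g (i z) hiz hc hgseq)
    (by rw [Category.assoc, hcomm, ← Category.assoc b, ← hi', Category.assoc]) fun U => rfl

/-- A point blow-up sequence of a curve is a proper modification. -/
theorem modification_of_seq {Y' Y : Scheme.{u}} {g : Y' ⟶ Y} (hg : Resolve.IsPtBlowupSeq g) :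
    ∀ [IsIntegral Y] [IsNoetherian Y], ¬ IsClosed ({genericPoint Y} : Set Y) →
    IsProper g ∧ IsIntegral Y' ∧ ∃ V : Y.Opens, (V : Set Y).Nonempty ∧ IsIso (g ∣_ V) := by
  induction hg with
  | @iso A B e =>
    intro _ _ _
    haveI : Nonempty A := ⟨e.inv (genericPoint B)⟩
    exact ⟨inferInstance, isIntegral_of_isOpenImmersion e.hom, ⊤, ⟨genericPoint B, trivial⟩, inferInstance⟩
  | @step A Z B b r z hz hb hr ih =>
    intro _ _ hη
    obtain ⟨hp, hint, V, hV, hVi⟩ := ih hη
    haveI := hp; haveI := hint; haveI := hVi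
    haveI : IsLocallyNoetherian Z := LocallyOfFiniteType.isLocallyNoetherian r
    have hηV : genericPoint B ∈ V := ((genericPoint_spec B).mem_open_set_iff V.isOpen).mpr (by simpa using hV)
    have hcl : IsClosed ({r z} : Set B) := by
      rw [← Set.image_singleton]
      exact r.isClosedMap _ hz
    let O : B.Opens := ⟨({r z} : Set B)ᶜ, hcl.isOpen_compl⟩
    have hηO : genericPoint B ∈ O := fun h0 => hη (Set.mem_singleton_iff.1 h0 ▸ hcl)
    let J := Scheme.IdealSheafData.vanishingIdeal (X := Z) ⟨{z}, hz⟩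
    have hJ : J ≠ ⊥ := fun h0 => by
      obtain ⟨w, hw⟩ := (r ∣_ V).surjective ⟨genericPoint B, hηV⟩
      have h1 : w.1 ∈ (J.support : Set Z) := by rw [h0, Scheme.IdealSheafData.support_bot]; trivial
      rw [Scheme.IdealSheafData.coe_support_vanishingIdeal] at h1
      exact hηO ((congrArg Subtype.val hw).symm.trans ((restrict_apply r V w).trans (congrArg r (Set.mem_singleton_iff.1 h1))))
    obtain ⟨hA, -, -⟩ := Groth.Agent.S2348.result J hJ b hb
    haveI := hA
    haveI : IsProper b := GrothLib.BlowUpProper.isProper_of_isBlowUp hb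
    refine ⟨inferInstance, hA, V ⊓ O, ⟨_, hηV, hηO⟩, ?_⟩
    haveI := GrothLib.Nagata6.isIso_restrict_of_le r V (V ⊓ O) inf_le_left
    haveI := GrothLib.BlowUp.isIso_off_center hb
    haveI := GrothLib.Nagata6.isIso_restrict_of_le b J.support.compl (r ⁻¹ᵁ (V ⊓ O)) fun w hw => by
      show w ∉ (J.support : Set Z)
      rw [Scheme.IdealSheafData.coe_support_vanishingIdeal]
      intro hwz
      exact hw.2 (congrArg r (Set.mem_singleton_iff.1 hwz))
    rw [morphismRestrict_comp]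
    infer_instance

theorem not_isClosed_genericPoint {Y : Scheme.{u}} [IsIntegral Y] (hdim : topologicalKrullDim Y = 1) :
    ¬ IsClosed ({genericPoint Y} : Set Y) := fun hc => by
  have hsub : ∀ y : Y, y = genericPoint Y := fun y => hc.closure_subset (((genericPoint_spec Y).specializes trivial).mem_closure)
  haveI : Subsingleton Y := ⟨fun a b => (hsub a).trans (hsub b).symm⟩
  haveI : Subsingleton (IrreducibleCloseds Y) := ⟨fun a b => IrreducibleCloseds.ext (by
    rw [Subsingleton.eq_univ_of_nonempty a.isIrreducible.nonempty, Subsingleton.eq_univ_of_nonempty b.isIrreducible.nonempty])⟩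
  have h0 : topologicalKrullDim Y ≤ 0 := Order.krullDim_nonpos_of_subsingleton
  rw [hdim] at h0
  exact absurd h0 (by decide)

end GrothLib.CurveResol29

namespace GrothLib.CurveResol29

theorem isDominant_of_isIso_over {X Y : Scheme.{u}} [IsIntegral Y] (g : X ⟶ Y) (V : Y.Opens)
    (hV : (V : Set Y).Nonempty) [IsIso (g ∣_ V)] : IsDominant g :=
  ⟨Dense.mono (fun y hy => by
    obtain ⟨x, hx⟩ := (g ∣_ V).surjective ⟨y, hy⟩
    exact ⟨x.1, (restrict_apply g V x).symm.trans (congrArg Subtype.val hx)⟩) (V.isOpen.dense hV)⟩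

theorem exists_pointBlowups_of_finite {Y X₀ : Scheme.{u}} [IsIntegral Y] [IsNoetherian Y] [IsNoetherian X₀]
    [QuasiCompact (Y.fromSpecStalk (genericPoint Y))] [QuasiSeparated (Y.fromSpecStalk (genericPoint Y))]
    (hdim : topologicalKrullDim Y ≤ 1) (hfin : IsFinite (Curv2.normalizationι Y)) (i₀ : Y ⟶ X₀) [IsClosedImmersion i₀] :
    ∃ (X' : Scheme.{u}) (g : X' ⟶ X₀) (Y' : Scheme.{u}) (g' : Y' ⟶ Y) (i' : Y' ⟶ X'),
      Resolve.IsPtBlowupSeq g ∧ Resolve.IsPtBlowupSeq g' ∧ IsClosedImmersion i' ∧ g' ≫ i₀ = i' ≫ g ∧ IsIntegral Y' ∧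
      (∃ V : Y.Opens, (V : Set Y).Nonempty ∧ IsIso (g' ∣_ V)) ∧
      ∀ y : Y', IsRegularLocalRing (Y'.presheaf.stalk y) := by
  haveI := hfin
  obtain ⟨V, hV, hVi⟩ := GrothLib.NormFib.exists_isIso_of_finite hfin
  haveI := hVi
  haveI := isDominant_of_isIso_over (Curv2.normalizationι Y) V hV
  obtain ⟨X', g, Y', g', i', h1, h2, h3, h4, h5, h6, h7, -⟩ :=
    exists_pointBlowups_regular (isRegular_normalization hdim hfin) hdim (Curv2.normalizationι Y) i₀
  exact ⟨X', g, Y', g', i', h1, h2, h3, h4, h5, h6, h7⟩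

theorem resolution_iff_pointBlowups {Y : Scheme.{u}} [IsIntegral Y] [IsNoetherian Y] (hdim : topologicalKrullDim Y = 1) :
    (∃ (X : Scheme.{u}) (g : X ⟶ Y), IsProper g ∧ IsIntegral X ∧
        (∃ V : Y.Opens, (V : Set Y).Nonempty ∧ IsIso (g ∣_ V)) ∧ ∀ x : X, IsRegularLocalRing (X.presheaf.stalk x)) ↔
      ∃ (Y' : Scheme.{u}) (g : Y' ⟶ Y), Resolve.IsPtBlowupSeq g ∧ ∀ y : Y', IsRegularLocalRing (Y'.presheaf.stalk y) := by
  constructor
  · rintro ⟨X, g, hg, hX, ⟨V, hV, hiso⟩, hreg⟩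
    haveI := hg; haveI := hX; haveI := hiso
    haveI := isDominant_of_isIso_over g V hV
    have hfin := isFinite_normalizationι_of_alteration g hreg
    obtain ⟨_, _, Y', g', _, _, h1, _, _, _, _, h2⟩ := exists_pointBlowups_of_finite hdim.le hfin (𝟙 Y)
    exact ⟨Y', g', h1, h2⟩
  · rintro ⟨Y', g, hg, hreg⟩
    obtain ⟨h1, h2, h3⟩ := modification_of_seq hg (not_isClosed_genericPoint hdim)
    exact ⟨Y', g, h1, h2, h3, hreg⟩

theorem exists_strictTransform_regular {X : Scheme.{u}} [IsNoetherian X] (I : X.IdealSheafData)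
    [IsIntegral I.subscheme] (hdim : topologicalKrullDim ↥I.subscheme = 1)
    [QuasiCompact (I.subscheme.fromSpecStalk (genericPoint ↥I.subscheme))]
    [QuasiSeparated (I.subscheme.fromSpecStalk (genericPoint ↥I.subscheme))]
    (hfin : IsFinite (Curv2.normalizationι I.subscheme)) :
    ∃ (X' : Scheme.{u}) (g : X' ⟶ X), Resolve.IsPtBlowupSeq g ∧
      ∃ (I' : X'.IdealSheafData) (g' : I'.subscheme ⟶ I.subscheme), IsIntegral I'.subscheme ∧
        g' ≫ I.subschemeι = I'.subschemeι ≫ g ∧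
        (∃ V : I.subscheme.Opens, (V : Set ↥I.subscheme).Nonempty ∧ IsIso (g' ∣_ V)) ∧
        ∀ y : ↥I'.subscheme, IsRegularLocalRing (I'.subscheme.presheaf.stalk y) := by
  haveI : IsLocallyNoetherian I.subscheme := LocallyOfFiniteType.isLocallyNoetherian I.subschemeι
  haveI : CompactSpace I.subscheme := QuasiCompact.compactSpace_of_compactSpace I.subschemeι
  haveI : IsNoetherian I.subscheme := ⟨⟩
  obtain ⟨X', g, Y', g', i', h1, -, hi, hcomm, hY', ⟨V, hV, hVi⟩, hreg⟩ :=
    exists_pointBlowups_of_finite hdim.le hfin I.subschemeι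
  haveI := hi; haveI := hY'; haveI := hVi
  let e := asIso i'.toImage
  haveI : Nonempty (i'.ker.subscheme) := ⟨i'.toImage (genericPoint Y')⟩
  haveI : IsIntegral i'.ker.subscheme := isIntegral_of_isOpenImmersion e.inv
  refine ⟨X', g, h1, i'.ker, e.inv ≫ g', inferInstance, ?_, ⟨V, hV, ?_⟩, fun y => ?_⟩
  · rw [Category.assoc, hcomm, ← Category.assoc]
    congr 1
    rw [Iso.inv_comp_eq]
    exact (Scheme.Hom.toImage_imageι i').symm
  · rw [morphismRestrict_comp]
    infer_instance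
  · haveI := hreg (e.inv y)
    exact IsRegularLocalRing.of_ringEquiv (R := Y'.presheaf.stalk (e.inv y))
      (asIso (e.inv.stalkMap y)).commRingCatIsoToRingEquiv

end GrothLib.CurveResol29
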